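import Mathlib
import Cfsg.Prelude.Def_Amalgam
import Cfsg.Agent.Lib.Helper84.PCoreBasic
import Cfsg.Agent.Lib.Helper71.Sym.BDefs

set_option autoImplicit false

/-!
S2858 (K-S 10.3.11), package (P0): the frozen hypotheses give helper71's local amalgam data
`LAmal P T (pCoreOf 2 P)` for each of the two subgroups, and the core condition of `BAmal`.
-/

namespace Cfsg.Agent.Lib.Helper34.Amal

open Cfsg.Agent.Lib.Helper71.Sym

universe u

variable {G : Type u} [Group G]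

/-- The Bool-indexed pair: `bp P₁ P₂ true = P₁`, `bp P₁ P₂ false = P₂`. -/
def bp (P₁ P₂ : Subgroup G) : Bool → Subgroup G := fun i => bif i then P₁ else P₂

@[simp] theorem bp_true (P₁ P₂ : Subgroup G) : bp P₁ P₂ true = P₁ := rfl

@[simp] theorem bp_false (P₁ P₂ : Subgroup G) : bp P₁ P₂ false = P₂ := rfl

theorem bp_mem (P₁ P₂ : Subgroup G) (i : Bool) :
    bp P₁ P₂ i ∈ ({P₁, P₂} : Set (Subgroup G)) := by
  cases i <;> simp [bp]

theorem mem_pCoreOf {P : Subgroup G} {q : G} :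
    q ∈ Cfsg.pCoreOf 2 P ↔ ∃ hq : q ∈ P, (⟨q, hq⟩ : ↥P) ∈ Cfsg.pCore 2 ↥P := by
  unfold Cfsg.pCoreOf
  rw [Subgroup.mem_map]
  constructor
  · rintro ⟨x, hx, rfl⟩
    exact ⟨x.2, hx⟩
  · rintro ⟨hq, h⟩
    exact ⟨⟨q, hq⟩, h, rfl⟩

/-- The local amalgam data for one of the two subgroups, from the frozen hypotheses. -/
theorem lamal_one (P T : Subgroup G) [Finite ↥P] (hTP : T ≤ P)
    (h₁ : P ⊓ Subgroup.centralizer (Cfsg.pCoreOf 2 P : Set G) ≤ Cfsg.pCoreOf 2 P)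
    (h₂ : ∃ S : Sylow 2 ↥P, (S : Subgroup ↥P) = T.subgroupOf P)
    (h₄ : Nonempty (↥P ⧸ Cfsg.pCore 2 ↥P ≃* Equiv.Perm (Fin 3)))
    (h₅ : ¬ P ≤ Subgroup.centralizer
      (Cfsg.omegaOne 2 (T ⊓ Subgroup.centralizer (T : Set G)) : Set G)) :
    LAmal P T (Cfsg.pCoreOf 2 P) := by
  haveI : Fact (Nat.Prime 2) := ⟨Nat.prime_two⟩
  obtain ⟨S, hS⟩ := h₂
  obtain ⟨e⟩ := h₄
  set Qs : Subgroup ↥P := Cfsg.pCore 2 ↥P with hQs
  have hQsS : Qs ≤ (S : Subgroup ↥P) := Cfsg.Agent.Lib.Helper84.pCore_le_sylow 2 S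
  have hQs2 : IsPGroup 2 ↥Qs := Cfsg.Agent.Lib.Helper84.pCore_isPGroup 2 ↥P
  -- cardinalities
  have hcQ : Nat.card ↥(Cfsg.pCoreOf 2 P) = Nat.card ↥Qs := by
    unfold Cfsg.pCoreOf
    exact Nat.card_congr (Qs.equivMapOfInjective _ P.subtype_injective).symm.toEquiv
  have hcT : Nat.card ↥T = Nat.card ↥(S : Subgroup ↥P) := by
    rw [hS]
    exact (Nat.card_congr (Subgroup.subgroupOfEquivOfLe hTP).toEquiv).symm
  have hc6 : Nat.card (↥P ⧸ Qs) = 6 := by
    rw [Nat.card_congr e.toEquiv, Nat.card_perm]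
    simp
    rfl
  have hcP : Nat.card ↥P = 6 * Nat.card ↥Qs := by
    rw [Subgroup.card_eq_card_quotient_mul_card_subgroup Qs, hc6]
  have hqpos : 0 < Nat.card ↥Qs := Nat.card_pos
  have hidx : Nat.card ↥(S : Subgroup ↥P) * (S : Subgroup ↥P).index = Nat.card ↥P :=
    Subgroup.card_mul_index _
  have hodd : ¬ 2 ∣ (S : Subgroup ↥P).index := S.not_dvd_index
  have hdvd : Nat.card ↥Qs ∣ Nat.card ↥(S : Subgroup ↥P) := Subgroup.card_dvd_of_le hQsS
  obtain ⟨c, hc⟩ := hdvd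
  obtain ⟨m, hm⟩ := (IsPGroup.iff_card).mp S.isPGroup'
  have hc2 : ∃ d, c = 2 ^ d := by
    have : c ∣ 2 ^ m := by rw [← hm, hc]; exact Dvd.intro_left _ rfl
    obtain ⟨d, -, hd⟩ := (Nat.dvd_prime_pow Nat.prime_two).mp this
    exact ⟨d, hd⟩
  have hc6' : c * (S : Subgroup ↥P).index = 6 := by
    have h1 : Nat.card ↥Qs * (c * (S : Subgroup ↥P).index) = Nat.card ↥Qs * 6 := by
      rw [← mul_assoc, ← hc, hidx, hcP, mul_comm]
    exact Nat.eq_of_mul_eq_mul_left hqpos h1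
  have hc_eq : c = 2 := by
    obtain ⟨d, hd⟩ := hc2
    have hcd : c ∣ 6 := Dvd.intro _ hc6'
    rcases d with _ | _ | d
    · exfalso
      simp at hd
      rw [hd, one_mul] at hc6'
      exact hodd (by rw [hc6']; decide)
    · simpa using hd
    · exfalso
      have h4 : 4 ∣ c := by
        rw [hd]
        exact Dvd.intro_left (2 ^ d) (by ring)
      have : 4 ∣ 6 := h4.trans hcd
      omega
  have hTQ : Nat.card ↥T = 2 * Nat.card ↥(Cfsg.pCoreOf 2 P) := by
    rw [hcT, hc, hc_eq, hcQ, mul_comm]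
  have hHT : Nat.card ↥P = 3 * Nat.card ↥T := by
    rw [hTQ, hcP, hcQ]; ring
  refine
    { fin := inferInstance
      hQT := ?_
      hTH := hTP
      hQn := ?_
      hT2 := ?_
      hTQ := hTQ
      hHT := hHT
      hTn := ?_
      hCQ := ?_
      hZ := ?_ }
  · -- Q ≤ T
    intro q hq
    obtain ⟨hqP, hq'⟩ := mem_pCoreOf.mp hq
    have := hQsS hq'
    rw [hS, Subgroup.mem_subgroupOf] at this
    exact this
  · -- Q normal in P
    intro h hh q hq
    obtain ⟨hqP, hq'⟩ := mem_pCoreOf.mp hq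
    have hn : (Cfsg.pCore 2 ↥P).Normal := inferInstance
    have := hn.conj_mem _ hq' ⟨h, hh⟩
    exact mem_pCoreOf.mpr ⟨P.mul_mem (P.mul_mem hh hqP) (P.inv_mem hh), this⟩
  · -- T is a 2-group
    have h1 : IsPGroup 2 ↥(T.subgroupOf P) := by
      rw [← hS]; exact S.isPGroup'
    exact h1.of_equiv (Subgroup.subgroupOfEquivOfLe hTP)
  · -- T is not normal in P
    by_contra hcon
    push Not at hcon
    have hn : (T.subgroupOf P).Normal := by
      constructor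
      intro n hn g
      rw [Subgroup.mem_subgroupOf] at hn ⊢
      have := hcon g.1 g.2 n.1 hn
      simpa using this
    have h2 : IsPGroup 2 ↥(T.subgroupOf P) := by
      rw [← hS]; exact S.isPGroup'
    have hle : T.subgroupOf P ≤ Qs := Cfsg.Agent.Lib.Helper84.le_pCore hn h2
    have hle' : Nat.card ↥(T.subgroupOf P) ≤ Nat.card ↥Qs := Subgroup.card_le_of_le hle
    rw [← hS, hc, hc_eq] at hle'
    omega
  · -- C_P(Q) ≤ Q
    intro g hg hcomm
    apply h₁
    refine ⟨hg, ?_⟩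
    have : g ∈ Subgroup.centralizer (Cfsg.pCoreOf 2 P : Set G) := by
      rw [Subgroup.mem_centralizer_iff]
      intro q hq
      exact (hcomm q hq).symm
    exact this
  · -- an involution of Z(T) not central in P
    by_contra hcon
    push Not at hcon
    apply h₅
    intro h hh
    have key : ∀ y ∈ Subgroup.closure
        {x : G | x ∈ T ⊓ Subgroup.centralizer (T : Set G) ∧ x ^ 2 = 1}, y * h = h * y := by
      intro y hy
      induction hy using Subgroup.closure_induction with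
      | mem x hx =>
        obtain ⟨⟨hxT, hxc⟩, hx2⟩ := hx
        have hx2' : x * x = 1 := by rw [← pow_two]; exact hx2
        have hxc' : ∀ t ∈ T, x * t = t * x := by
          intro t ht
          exact ((Subgroup.mem_centralizer_iff.mp hxc) t ht).symm
        exact (hcon x hxT hx2' hxc' h hh).symm
      | one => simp
      | mul a b _ _ iha ihb =>
        rw [mul_assoc, ihb, ← mul_assoc, iha, mul_assoc]
      | inv a _ iha =>
        calc a⁻¹ * h = a⁻¹ * (h * a) * a⁻¹ := by group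
          _ = a⁻¹ * (a * h) * a⁻¹ := by rw [iha]
          _ = h * a⁻¹ := by group
    have : h ∈ Subgroup.centralizer
        (Cfsg.omegaOne 2 (T ⊓ Subgroup.centralizer (T : Set G)) : Set G) := by
      rw [Subgroup.mem_centralizer_iff]
      intro y hy
      exact key y hy
    exact this

/-- Package (P0): the frozen hypotheses of S2858 give `LAmal` at both types. -/
theorem lamal_of_frozen (P₁ P₂ : Subgroup G) [Finite ↥P₁] [Finite ↥P₂] (T : Subgroup G)
    (hT : T = P₁ ⊓ P₂)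
    (h₁ : ∀ P ∈ ({P₁, P₂} : Set (Subgroup G)),
      P ⊓ Subgroup.centralizer (Cfsg.pCoreOf 2 P : Set G) ≤ Cfsg.pCoreOf 2 P)
    (h₂ : ∀ P ∈ ({P₁, P₂} : Set (Subgroup G)),
      ∃ S : Sylow 2 ↥P, (S : Subgroup ↥P) = T.subgroupOf P)
    (h₄ : ∀ P ∈ ({P₁, P₂} : Set (Subgroup G)),
      Nonempty (↥P ⧸ Cfsg.pCore 2 ↥P ≃* Equiv.Perm (Fin 3)))
    (h₅ : ∀ P ∈ ({P₁, P₂} : Set (Subgroup G)), ¬ P ≤ Subgroup.centralizer
      (Cfsg.omegaOne 2 (T ⊓ Subgroup.centralizer (T : Set G)) : Set G)) :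
    ∀ i, LAmal (bp P₁ P₂ i) T (Cfsg.pCoreOf 2 (bp P₁ P₂ i)) := by
  intro i
  cases i
  · haveI : Finite ↥(bp P₁ P₂ false) := by simpa using (inferInstance : Finite ↥P₂)
    exact lamal_one (bp P₁ P₂ false) T (by rw [hT]; exact inf_le_right)
      (h₁ _ (bp_mem P₁ P₂ false)) (h₂ _ (bp_mem P₁ P₂ false)) (h₄ _ (bp_mem P₁ P₂ false))
      (h₅ _ (bp_mem P₁ P₂ false))
  · haveI : Finite ↥(bp P₁ P₂ true) := by simpa using (inferInstance : Finite ↥P₁)
    exact lamal_one (bp P₁ P₂ true) T (by rw [hT]; exact inf_le_left)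
      (h₁ _ (bp_mem P₁ P₂ true)) (h₂ _ (bp_mem P₁ P₂ true)) (h₄ _ (bp_mem P₁ P₂ true))
      (h₅ _ (bp_mem P₁ P₂ true))

/-- The core condition of `BAmal` from the frozen hypotheses `hgen` and `h₃`. -/
theorem hcore_of_frozen (P₁ P₂ : Subgroup G) (hgen : P₁ ⊔ P₂ = ⊤) (T : Subgroup G)
    (h₃ : ∀ N : Subgroup G, N.Normal → N ≤ T → N = ⊥) :
    ∀ N : Subgroup G, N ≤ T → (∀ i, ∀ h ∈ bp P₁ P₂ i, ∀ n ∈ N, h * n * h⁻¹ ∈ N) → N = ⊥ := by
  intro N hNT hinv
  refine h₃ N ?_ hNT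
  have key : ∀ i, bp P₁ P₂ i ≤ Subgroup.normalizer (N : Set G) := by
    intro i h hh
    rw [Subgroup.mem_normalizer_iff]
    intro n
    constructor
    · intro hn; exact hinv i h hh n hn
    · intro hn
      have h1 := hinv i h⁻¹ ((bp P₁ P₂ i).inv_mem hh) _ hn
      simpa [mul_assoc] using h1
  have hle : P₁ ⊔ P₂ ≤ Subgroup.normalizer (N : Set G) :=
    sup_le (key true) (key false)
  rw [hgen] at hle
  exact Subgroup.normalizer_eq_top_iff.mp (top_le_iff.mp hle)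

end Cfsg.Agent.Lib.Helper34.Amal
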