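import Cfsg.Agent.Lib.Helper34.Amal.NLType
import Cfsg.Agent.Lib.Helper71.Sym.BDefs

/-!
# (N-L): the normal subgroup `L = ⟨S^P⟩` of a local amalgam, subgroup-of-`G` version

Transfer of `exists_L_type` to an `LAmal P T Q` inside an ambient group `G`.
-/

namespace Cfsg.Agent.Lib.Helper34.Amal

open Cfsg.Agent.Lib.Helper71.Sym

universe u

theorem mem_map_subtype_iff' {G : Type u} [Group G] (P : Subgroup G) (L' : Subgroup ↥P) (x : G) :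
    x ∈ L'.map P.subtype ↔ ∃ hx : x ∈ P, (⟨x, hx⟩ : ↥P) ∈ L' := by
  constructor
  · rintro ⟨y, hy, rfl⟩
    exact ⟨y.2, hy⟩
  · rintro ⟨hx, h⟩
    exact ⟨⟨x, hx⟩, h, rfl⟩

/-- **(N-L)**: if `S` is a second subgroup of index `2` in `T`, `S ≠ Q`, and `D = Q ⊓ S` is
normal in `P`, then `P` has a normal subgroup `L` with `L ⊓ T = S`, `|L| = 3|S|`, `P = L Q`,
`C_L(D) ≤ D`, `O₂(L) ≤ D`, and `S` is not normal in `L`. -/
theorem exists_L {G : Type u} [Group G] (P T Q S : Subgroup G) (hA : LAmal P T Q) (hST : S ≤ T)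
    (hTS : Nat.card ↥T = 2 * Nat.card ↥S) (hSQ : S ≠ Q)
    (hDn : ∀ h ∈ P, ∀ d ∈ Q ⊓ S, h * d * h⁻¹ ∈ Q ⊓ S) :
    ∃ L : Subgroup G, S ≤ L ∧ L ≤ P ∧ (∀ h ∈ P, ∀ l ∈ L, h * l * h⁻¹ ∈ L) ∧
      Nat.card ↥L = 3 * Nat.card ↥S ∧ L ⊓ T = S ∧ L ⊓ Q = Q ⊓ S ∧
      (∀ g ∈ L, (∀ d ∈ Q ⊓ S, g * d = d * g) → g ∈ Q ⊓ S) ∧
      (∃ l ∈ L, ∃ s ∈ S, l * s * l⁻¹ ∉ S) ∧
      (∀ p ∈ P, ∃ l ∈ L, ∃ q ∈ Q, p = l * q) ∧
      (∀ N : Subgroup G, N ≤ L → IsPGroup 2 ↥N → (∀ l ∈ L, ∀ n ∈ N, l * n * l⁻¹ ∈ N) →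
        N ≤ Q ⊓ S) := by
  haveI := hA.fin
  have hTP : T ≤ P := hA.hTH
  have hQP : Q ≤ P := hA.hQT.trans hA.hTH
  have hSP : S ≤ P := hST.trans hA.hTH
  have hcard : ∀ A : Subgroup G, A ≤ P → Nat.card ↥(A.subgroupOf P) = Nat.card ↥A :=
    fun A hA' => Nat.card_congr (Subgroup.subgroupOfEquivOfLe hA').toEquiv
  have hmem : ∀ (A : Subgroup G) (x : ↥P), x ∈ A.subgroupOf P ↔ (x : G) ∈ A :=
    fun A x => Subgroup.mem_subgroupOf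
  haveI hQ'n : (Q.subgroupOf P).Normal := ⟨fun q hq h => by
    rw [hmem] at hq ⊢
    simpa using hA.hQn h h.2 q hq⟩
  haveI hD'n : (Q.subgroupOf P ⊓ S.subgroupOf P).Normal := ⟨fun d hd h => by
    have hd' : (d : G) ∈ Q ⊓ S := ⟨(hmem Q d).1 hd.1, (hmem S d).1 hd.2⟩
    have := hDn h h.2 d hd'
    exact ⟨(hmem Q _).2 (by simpa using this.1), (hmem S _).2 (by simpa using this.2)⟩⟩
  have h1 : Q.subgroupOf P ≤ T.subgroupOf P := fun x hx => (hmem T x).2 (hA.hQT ((hmem Q x).1 hx))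
  have h2 : IsPGroup 2 ↥(T.subgroupOf P) := hA.hT2.comap_subtype
  have h3 : Nat.card ↥(T.subgroupOf P) = 2 * Nat.card ↥(Q.subgroupOf P) := by
    rw [hcard T hTP, hcard Q hQP]; exact hA.hTQ
  have h4 : Nat.card ↥P = 3 * Nat.card ↥(T.subgroupOf P) := by
    rw [hcard T hTP]; exact hA.hHT
  have h5 : ∃ h : ↥P, ∃ t ∈ T.subgroupOf P, h * t * h⁻¹ ∉ T.subgroupOf P := by
    obtain ⟨h, hh, t, ht, hn⟩ := hA.hTn
    refine ⟨⟨h, hh⟩, ⟨t, hTP ht⟩, (hmem T _).2 ht, fun hc => hn ?_⟩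
    simpa using (hmem T _).1 hc
  have h6 : ∀ g : ↥P, (∀ q ∈ Q.subgroupOf P, g * q = q * g) → g ∈ Q.subgroupOf P := by
    intro g hg
    refine (hmem Q g).2 (hA.hCQ g g.2 fun q hq => ?_)
    have := hg ⟨q, hQP hq⟩ ((hmem Q _).2 hq)
    simpa using congrArg Subtype.val this
  have h7 : S.subgroupOf P ≤ T.subgroupOf P := fun x hx => (hmem T x).2 (hST ((hmem S x).1 hx))
  have h8 : Nat.card ↥(T.subgroupOf P) = 2 * Nat.card ↥(S.subgroupOf P) := by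
    rw [hcard T hTP, hcard S hSP]; exact hTS
  have h9 : S.subgroupOf P ≠ Q.subgroupOf P := by
    intro hc
    apply hSQ
    ext x
    constructor
    · intro hx
      have : (⟨x, hSP hx⟩ : ↥P) ∈ Q.subgroupOf P := hc ▸ (hmem S _).2 hx
      exact (hmem Q _).1 this
    · intro hx
      have : (⟨x, hQP hx⟩ : ↥P) ∈ S.subgroupOf P := hc.symm ▸ (hmem Q _).2 hx
      exact (hmem S _).1 this
  obtain ⟨L', c1, c2, c3, c4, c5, c6, c7, c8, c9⟩ :=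
    exists_L_type (T.subgroupOf P) (Q.subgroupOf P) (S.subgroupOf P) h1 h2 h3 h4 h5 h6 h7 h8 h9
  have hL : ∀ x : G, x ∈ L'.map P.subtype ↔ ∃ hx : x ∈ P, (⟨x, hx⟩ : ↥P) ∈ L' :=
    mem_map_subtype_iff' P L'
  have hLP : L'.map P.subtype ≤ P := fun x hx => ((hL x).1 hx).1
  refine ⟨L'.map P.subtype, ?_, hLP, ?_, ?_, ?_, ?_, ?_, ?_, ?_, ?_⟩
  · intro x hx
    exact (hL x).2 ⟨hSP hx, c1 ((hmem S _).2 hx)⟩
  · intro h hh l hl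
    obtain ⟨hlP, hl'⟩ := (hL l).1 hl
    refine (hL _).2 ⟨P.mul_mem (P.mul_mem hh hlP) (P.inv_mem hh), ?_⟩
    have := c2.conj_mem ⟨l, hlP⟩ hl' ⟨h, hh⟩
    exact this
  · rw [Subgroup.card_map_of_injective P.subtype_injective, c3, hcard S hSP]
  · ext x
    constructor
    · rintro ⟨hx, hxT⟩
      obtain ⟨hxP, hx'⟩ := (hL x).1 hx
      have : (⟨x, hxP⟩ : ↥P) ∈ L' ⊓ T.subgroupOf P := ⟨hx', (hmem T _).2 hxT⟩
      rw [c4] at this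
      exact (hmem S _).1 this
    · intro hx
      exact ⟨(hL x).2 ⟨hSP hx, c1 ((hmem S _).2 hx)⟩, hST hx⟩
  · ext x
    constructor
    · rintro ⟨hx, hxQ⟩
      obtain ⟨hxP, hx'⟩ := (hL x).1 hx
      have : (⟨x, hxP⟩ : ↥P) ∈ L' ⊓ Q.subgroupOf P := ⟨hx', (hmem Q _).2 hxQ⟩
      rw [c5] at this
      exact ⟨(hmem Q _).1 this.1, (hmem S _).1 this.2⟩
    · rintro ⟨hxQ, hxS⟩
      have : (⟨x, hQP hxQ⟩ : ↥P) ∈ L' ⊓ Q.subgroupOf P := by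
        rw [c5]; exact ⟨(hmem Q _).2 hxQ, (hmem S _).2 hxS⟩
      exact ⟨(hL x).2 ⟨hQP hxQ, this.1⟩, hxQ⟩
  · intro g hg hc
    obtain ⟨hgP, hg'⟩ := (hL g).1 hg
    have := c6 ⟨g, hgP⟩ hg' (fun d hd => by
      have hd' : (d : G) ∈ Q ⊓ S := ⟨(hmem Q d).1 hd.1, (hmem S d).1 hd.2⟩
      exact Subtype.ext (hc d hd'))
    exact ⟨(hmem Q _).1 this.1, (hmem S _).1 this.2⟩
  · obtain ⟨l, hl, s, hs, hn⟩ := c7
    refine ⟨l, (hL _).2 ⟨l.2, hl⟩, s, (hmem S s).1 hs, fun hc => hn ?_⟩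
    exact (hmem S _).2 (by simpa using hc)
  · intro p hp
    obtain ⟨l, hl, q, hq, hpq⟩ := c8 ⟨p, hp⟩
    refine ⟨l, (hL _).2 ⟨l.2, hl⟩, q, (hmem Q q).1 hq, ?_⟩
    simpa using congrArg Subtype.val hpq
  · intro N hNL hN2 hNn x hx
    have hNP : N ≤ P := hNL.trans hLP
    have h10 : N.subgroupOf P ≤ L' := by
      intro y hy
      obtain ⟨hyP, hy'⟩ := (hL y).1 (hNL ((hmem N y).1 hy))
      exact hy'
    have h11 : IsPGroup 2 ↥(N.subgroupOf P) := hN2.comap_subtype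
    have h12 : ∀ l ∈ L', ∀ n ∈ N.subgroupOf P, l * n * l⁻¹ ∈ N.subgroupOf P := by
      intro l hl n hn
      refine (hmem N _).2 ?_
      have := hNn l ((hL _).2 ⟨l.2, hl⟩) n ((hmem N n).1 hn)
      simpa using this
    have := c9 (N.subgroupOf P) h10 h11 h12 ((hmem N ⟨x, hNP hx⟩).2 hx)
    exact ⟨(hmem Q _).1 this.1, (hmem S _).1 this.2⟩

end Cfsg.Agent.Lib.Helper34.Amal
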