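import Mathlib
import Cfsg.Agent.Lib.Helper83.KS12.S3Quot

set_option autoImplicit false

/-!
S2858, claim (N), first structural piece (type level): if `D = Q ⊓ S` is normal in `X`
(`X/Q = S3`, `T = Q S` a Sylow `2`-subgroup, `S ≠ Q` of index `2` in `T`), then there is a normal
subgroup `L` of index `2` in `X` with Sylow `2`-subgroup `S`, `O₂(L) = D`, `C_L(D) ≤ D`.
-/

namespace Cfsg.Agent.Lib.Helper34.Amal

universe u

section S3facts

set_option maxRecDepth 100000 in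
theorem s3_sq_or_cube : ∀ σ : Equiv.Perm (Fin 3), σ ^ 2 = 1 ∨ σ ^ 3 = 1 := by decide

set_option maxRecDepth 100000 in
theorem s3_conj : ∀ c σ : Equiv.Perm (Fin 3), c ≠ 1 → c ^ 3 = 1 →
    σ * c * σ⁻¹ = c ∨ σ * c * σ⁻¹ = c⁻¹ := by decide

set_option maxRecDepth 100000 in
theorem s3_gen : ∀ c τ σ : Equiv.Perm (Fin 3), c ≠ 1 → c ^ 3 = 1 → τ ≠ 1 → τ ^ 2 = 1 →
    ∃ i : Fin 3, ∃ j : Fin 2, σ = c ^ (i : ℕ) * τ ^ (j : ℕ) := by decide

set_option maxRecDepth 100000 in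
set_option synthInstance.maxSize 2000 in
set_option synthInstance.maxHeartbeats 200000 in
theorem s3_comm : ∀ c σ : Equiv.Perm (Fin 3), c ≠ 1 → c ^ 3 = 1 → σ ≠ 1 → σ ^ 2 = 1 →
    c * σ * c⁻¹ * σ⁻¹ ≠ 1 ∧ (c * σ * c⁻¹ * σ⁻¹) ^ 3 = 1 := by decide

set_option maxRecDepth 100000 in
set_option synthInstance.maxSize 2000 in
set_option synthInstance.maxHeartbeats 200000 in
theorem s3_two : ∀ c σ : Equiv.Perm (Fin 3), c ≠ 1 → c ^ 3 = 1 → σ ^ 2 = 1 →
    (c * σ * c⁻¹ * σ⁻¹) ^ 2 = 1 → σ = 1 := by decide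

set_option maxRecDepth 100000 in
set_option synthInstance.maxSize 2000 in
set_option synthInstance.maxHeartbeats 200000 in
theorem s3_tau : ∀ c τ : Equiv.Perm (Fin 3), c ≠ 1 → c ^ 3 = 1 → τ ≠ 1 → τ ^ 2 = 1 →
    c * τ * c⁻¹ ≠ 1 ∧ c * τ * c⁻¹ ≠ τ := by decide

end S3facts

/-- an element of order dividing `3` and a power of `2` is trivial -/
theorem eq_one_of_cube_of_two_pow {X : Type*} [Group X] {x : X} (h3 : x ^ 3 = 1) {k : ℕ}
    (h2 : x ^ 2 ^ k = 1) : x = 1 := by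
  have h1 : orderOf x ∣ 3 := orderOf_dvd_of_pow_eq_one h3
  have h2' : orderOf x ∣ 2 ^ k := orderOf_dvd_of_pow_eq_one h2
  have hc : Nat.Coprime 3 (2 ^ k) := Nat.Coprime.pow_right k (by decide)
  exact orderOf_eq_one_iff.mp (Nat.eq_one_of_dvd_coprimes hc h1 h2')

/-- in `S3`, an element of `2`-power order is an involution or trivial -/
theorem s3_sq_of_two_pow (σ : Equiv.Perm (Fin 3)) {k : ℕ} (h : σ ^ 2 ^ k = 1) : σ ^ 2 = 1 := by
  rcases s3_sq_or_cube σ with h2 | h3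
  · exact h2
  · rw [eq_one_of_cube_of_two_pow h3 h]; simp

/-- membership in a subgroup of index two (given by cardinalities) -/
theorem idx2 {X : Type*} [Group X] {A B : Subgroup X} [Finite ↥B] (hAB : A ≤ B)
    (hc : Nat.card ↥B = 2 * Nat.card ↥A) {a b : X} (ha : a ∈ B) (hb : b ∈ B) :
    a * b ∈ A ↔ (a ∈ A ↔ b ∈ A) := by
  have hpos : 0 < Nat.card ↥A := by
    haveI : Finite ↥A := Finite.of_injective (Subgroup.inclusion hAB)
      (Subgroup.inclusion_injective hAB)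
    exact Nat.card_pos
  have hidx : (A.subgroupOf B).index = 2 := by
    have h1 := Subgroup.card_mul_index (A.subgroupOf B)
    rw [Nat.card_congr (Subgroup.subgroupOfEquivOfLe hAB).toEquiv, hc] at h1
    have h2 : Nat.card ↥A * (A.subgroupOf B).index = Nat.card ↥A * 2 := by rw [h1]; ring
    exact Nat.eq_of_mul_eq_mul_left hpos h2
  have := Subgroup.mul_mem_iff_of_index_two hidx (a := (⟨a, ha⟩ : ↥B)) (b := (⟨b, hb⟩ : ↥B))
  simpa [Subgroup.mem_subgroupOf] using this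

theorem exists_L_type {X : Type u} [Group X] [Finite X] (T Q S : Subgroup X) [hQn : Q.Normal]
    (hQT : Q ≤ T) (hT2 : IsPGroup 2 ↥T) (hTQ : Nat.card ↥T = 2 * Nat.card ↥Q)
    (hXT : Nat.card X = 3 * Nat.card ↥T) (hTn : ∃ h : X, ∃ t ∈ T, h * t * h⁻¹ ∉ T)
    (hCQ : ∀ g : X, (∀ q ∈ Q, g * q = q * g) → g ∈ Q)
    (hST : S ≤ T) (hTS : Nat.card ↥T = 2 * Nat.card ↥S)
    (hSQ : S ≠ Q) [hDn : (Q ⊓ S).Normal] :
    ∃ L : Subgroup X, S ≤ L ∧ L.Normal ∧ Nat.card ↥L = 3 * Nat.card ↥S ∧ L ⊓ T = S ∧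
      L ⊓ Q = Q ⊓ S ∧
      (∀ g ∈ L, (∀ d ∈ Q ⊓ S, g * d = d * g) → g ∈ Q ⊓ S) ∧
      (∃ l ∈ L, ∃ s ∈ S, l * s * l⁻¹ ∉ S) ∧
      (∀ p : X, ∃ l ∈ L, ∃ q ∈ Q, p = l * q) ∧
      (∀ N : Subgroup X, N ≤ L → IsPGroup 2 ↥N → (∀ l ∈ L, ∀ n ∈ N, l * n * l⁻¹ ∈ N) →
        N ≤ Q ⊓ S) := by
  classical
  haveI : Fact (Nat.Prime 2) := ⟨Nat.prime_two⟩
  haveI : Fact (Nat.Prime 3) := ⟨Nat.prime_three⟩
  have hQpos : 0 < Nat.card ↥Q := Nat.card_pos
  have hSpos : 0 < Nat.card ↥S := Nat.card_pos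
  have hcQS : Nat.card ↥Q = Nat.card ↥S := by omega
  -- index two facts
  have iQ : ∀ {a b : X}, a ∈ T → b ∈ T → (a * b ∈ Q ↔ (a ∈ Q ↔ b ∈ Q)) :=
    fun ha hb => idx2 hQT hTQ ha hb
  have iS : ∀ {a b : X}, a ∈ T → b ∈ T → (a * b ∈ S ↔ (a ∈ S ↔ b ∈ S)) :=
    fun ha hb => idx2 hST hTS ha hb
  -- an element of S outside Q
  obtain ⟨s₀, hs₀S, hs₀Q⟩ : ∃ s₀ ∈ S, s₀ ∉ Q := by
    by_contra hcon
    push Not at hcon
    exact hSQ (Subgroup.eq_of_le_of_card_ge hcon (by omega))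
  have hs₀T : s₀ ∈ T := hST hs₀S
  set D : Subgroup X := Q ⊓ S with hD
  have hDQ : D ≤ Q := inf_le_left
  have hDS : D ≤ S := inf_le_right
  have hDT : D ≤ T := hDQ.trans hQT
  -- the homomorphism onto S3
  have hQidx : Q.index = 6 := by
    have h1 := Subgroup.card_mul_index Q
    have h2 : Nat.card ↥Q * Q.index = Nat.card ↥Q * 6 := by rw [h1, hXT, hTQ]; ring
    exact Nat.eq_of_mul_eq_mul_left hQpos h2
  have hna : ¬ ⁅(⊤ : Subgroup X), ⊤⁆ ≤ Q := by
    intro hle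
    obtain ⟨h, t, ht, hht⟩ := hTn
    apply hht
    have h1 := Subgroup.commutator_mem_commutator (Subgroup.mem_top h) (Subgroup.mem_top t)
    have h2 : h * t * h⁻¹ * t⁻¹ ∈ T := by
      have := hQT (hle h1)
      rwa [commutatorElement_def] at this
    have := T.mul_mem h2 ht
    simpa using this
  obtain ⟨e⟩ := Cfsg.Agent.Lib.Helper83.KS12.nonempty_mulEquiv_perm_three Q hQidx hna
  set π : X →* Equiv.Perm (Fin 3) := e.toMonoidHom.comp (QuotientGroup.mk' Q) with hπ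
  have hπ1 : ∀ g : X, π g = 1 ↔ g ∈ Q := by
    intro g
    rw [hπ]
    simp only [MonoidHom.coe_comp, MulEquiv.coe_toMonoidHom, Function.comp_apply,
      QuotientGroup.mk'_apply]
    rw [MulEquiv.map_eq_one_iff, QuotientGroup.eq_one_iff]
  have hπsurj : Function.Surjective π := by
    rw [hπ]
    exact e.surjective.comp (QuotientGroup.mk'_surjective Q)
  -- 2-power facts
  have hT2pow : ∀ t ∈ T, ∃ k : ℕ, t ^ 2 ^ k = 1 := by
    intro t ht
    obtain ⟨k, hk⟩ := hT2 ⟨t, ht⟩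
    exact ⟨k, by simpa using congrArg Subtype.val hk⟩
  -- an element of order 3
  obtain ⟨ρ, hρ⟩ := exists_prime_orderOf_dvd_card' (G := X) 3 (by rw [hXT]; exact Dvd.intro _ rfl)
  have hρ3 : ρ ^ 3 = 1 := by rw [← hρ]; exact pow_orderOf_eq_one ρ
  have hρ1 : ρ ≠ 1 := by
    intro h; rw [h, orderOf_one] at hρ; omega
  have hzT : ∀ z ∈ Subgroup.zpowers ρ, z ∈ T → z = 1 := by
    intro z hz hzT
    obtain ⟨k, hk⟩ := hT2pow z hzT
    have hz3 : z ^ 3 = 1 := by
      obtain ⟨n, rfl⟩ := Subgroup.mem_zpowers_iff.mp hz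
      rw [← zpow_natCast, ← zpow_mul, mul_comm, zpow_mul, zpow_natCast, hρ3, one_zpow]
    exact eq_one_of_cube_of_two_pow hz3 hk
  have hρT : ρ ∉ T := fun h => hρ1 (hzT ρ (Subgroup.mem_zpowers ρ) h)
  set c := π ρ with hc
  have hc1 : c ≠ 1 := by
    intro h
    exact hρT (hQT ((hπ1 ρ).mp h))
  have hc3 : c ^ 3 = 1 := by rw [hc, ← map_pow, hρ3, map_one]
  set τ := π s₀ with hτ
  have hτ1 : τ ≠ 1 := fun h => hs₀Q ((hπ1 s₀).mp h)
  have hτ2 : τ ^ 2 = 1 := by
    rw [hτ, ← map_pow, hπ1, pow_two]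
    exact (iQ hs₀T hs₀T).mpr Iff.rfl
  -- images of elements of T
  have hπT : ∀ t ∈ T, π t = 1 ∨ π t = τ := by
    intro t ht
    by_cases htQ : t ∈ Q
    · exact Or.inl ((hπ1 t).mpr htQ)
    · right
      have h1 : t * s₀ ∈ Q := (iQ ht hs₀T).mpr ⟨fun h => absurd h htQ, fun h => absurd h hs₀Q⟩
      have h2 : π t * τ = 1 := by rw [hτ, ← map_mul]; exact (hπ1 _).mpr h1
      have h3 : τ * τ = 1 := by rw [← pow_two]; exact hτ2
      calc π t = π t * (τ * τ) := by rw [h3, mul_one]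
        _ = (π t * τ) * τ := by rw [mul_assoc]
        _ = τ := by rw [h2, one_mul]
  have hπT2 : ∀ t ∈ T, π t ^ 2 = 1 := by
    intro t ht
    rcases hπT t ht with h | h
    · rw [h]; simp
    · rw [h]; exact hτ2
  -- conjugation on Q modulo D
  have hconjD : ∀ (h : X) (q : X), q ∈ Q → q ∉ S → h * q * h⁻¹ ∉ S := by
    intro h q hq hqS hcon
    have h1 : h * q * h⁻¹ ∈ D := ⟨hQn.conj_mem q hq h, hcon⟩
    have h2 := hDn.conj_mem _ h1 h⁻¹
    have h3 : h⁻¹ * (h * q * h⁻¹) * h⁻¹⁻¹ = q := by group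
    rw [h3] at h2
    exact hqS h2.2
  have hcommD : ∀ (h : X) (q : X), q ∈ Q → h * q * h⁻¹ * q⁻¹ ∈ D := by
    intro h q hq
    have hc' : h * q * h⁻¹ ∈ Q := hQn.conj_mem q hq h
    by_cases hqS : q ∈ S
    · have h1 : q ∈ D := ⟨hq, hqS⟩
      exact D.mul_mem (hDn.conj_mem q h1 h) (D.inv_mem h1)
    · refine ⟨Q.mul_mem hc' (Q.inv_mem hq), ?_⟩
      have h1 := hconjD h q hq hqS
      have h2 : q⁻¹ ∉ S := fun h => hqS (by simpa using S.inv_mem h)
      exact (iS (hQT hc') (T.inv_mem (hQT hq))).mpr ⟨fun h => absurd h h1, fun h => absurd h h2⟩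
  -- the cube lemma
  have hcube : ∀ q ∈ Q, ∀ r : X, r ^ 3 = 1 → (q * r) ^ 3 = 1 → q ∈ D := by
    intro q hq r hr hqr
    refine ⟨hq, ?_⟩
    by_contra hqS
    have e1 : (q * r) ^ 3 = q * (r * q * r⁻¹) * ((r * r) * q * (r * r)⁻¹) * r ^ 3 := by
      rw [pow_succ, pow_succ, pow_one, pow_succ, pow_succ, pow_one]; group
    rw [hr, mul_one] at e1
    rw [hqr] at e1
    have hb : r * q * r⁻¹ ∉ S := hconjD r q hq hqS
    have hc' : (r * r) * q * (r * r)⁻¹ ∉ S := hconjD (r * r) q hq hqS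
    have hbT : r * q * r⁻¹ ∈ T := hQT (hQn.conj_mem q hq r)
    have hcT : (r * r) * q * (r * r)⁻¹ ∈ T := hQT (hQn.conj_mem q hq (r * r))
    have h1 : q * (r * q * r⁻¹) ∈ S :=
      (iS (hQT hq) hbT).mpr ⟨fun h => absurd h hqS, fun h => absurd h hb⟩
    have h2 : q * (r * q * r⁻¹) * ((r * r) * q * (r * r)⁻¹) ∉ S := by
      intro h
      have := (iS (T.mul_mem (hQT hq) hbT) hcT).mp h
      exact hc' (this.mp h1)
    apply h2
    rw [← e1]
    exact S.one_mem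
  -- M = D ⟨ρ⟩ is normal
  set M : Subgroup X := D ⊔ Subgroup.zpowers ρ with hM
  have hDM : D ≤ M := le_sup_left
  have hρM : ρ ∈ M := (le_sup_right : Subgroup.zpowers ρ ≤ M) (Subgroup.mem_zpowers ρ)
  have hconjρ : ∀ h : X, h * ρ * h⁻¹ ∈ M := by
    intro h
    have h3 : (h * ρ * h⁻¹) ^ 3 = 1 := by
      rw [conj_pow, hρ3]; group
    have hπc : π (h * ρ * h⁻¹) = π h * c * (π h)⁻¹ := by
      rw [map_mul, map_mul, map_inv]
    rcases s3_conj c (π h) hc1 hc3 with hcase | hcase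
    · -- h ρ h⁻¹ = q ρ
      have hq : h * ρ * h⁻¹ * ρ⁻¹ ∈ Q := by
        rw [← hπ1, map_mul, hπc, hcase, map_inv]
        exact mul_inv_cancel c
      have h4 : (h * ρ * h⁻¹ * ρ⁻¹ * ρ) ^ 3 = 1 := by
        have : h * ρ * h⁻¹ * ρ⁻¹ * ρ = h * ρ * h⁻¹ := by group
        rw [this]; exact h3
      have hqD := hcube _ hq ρ hρ3 h4
      have : h * ρ * h⁻¹ = (h * ρ * h⁻¹ * ρ⁻¹) * ρ := by group
      rw [this]
      exact M.mul_mem (hDM hqD) hρM
    · -- h ρ h⁻¹ = q ρ⁻¹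
      have hq : h * ρ * h⁻¹ * ρ ∈ Q := by
        rw [← hπ1, map_mul, hπc, hcase]
        exact inv_mul_cancel c
      have hr3 : ρ⁻¹ ^ 3 = 1 := by rw [inv_pow, hρ3, inv_one]
      have h4 : (h * ρ * h⁻¹ * ρ * ρ⁻¹) ^ 3 = 1 := by
        have : h * ρ * h⁻¹ * ρ * ρ⁻¹ = h * ρ * h⁻¹ := by group
        rw [this]; exact h3
      have hqD := hcube _ hq ρ⁻¹ hr3 h4
      have : h * ρ * h⁻¹ = (h * ρ * h⁻¹ * ρ) * ρ⁻¹ := by group
      rw [this]
      exact M.mul_mem (hDM hqD) (M.inv_mem hρM)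
  have hMn : M.Normal := by
    constructor
    intro n hn h
    have hle : M.map (MulAut.conj h).toMonoidHom ≤ M := by
      rw [hM, Subgroup.map_sup, MonoidHom.map_zpowers]
      apply sup_le
      · rintro _ ⟨d, hd, rfl⟩
        exact le_sup_left (a := D) (hDn.conj_mem d hd h)
      · rw [Subgroup.zpowers_le]
        exact hconjρ h
    exact hle ⟨n, hn, rfl⟩
  -- images of M
  have hπM : ∀ m ∈ M, π m ^ 3 = 1 := by
    have hle : M ≤ (Subgroup.zpowers c).comap π := by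
      rw [hM]
      apply sup_le
      · intro d hd
        rw [Subgroup.mem_comap, (hπ1 d).mpr (hDQ hd)]
        exact Subgroup.one_mem _
      · rw [Subgroup.zpowers_le, Subgroup.mem_comap]
        exact Subgroup.mem_zpowers c
    intro m hm
    obtain ⟨k, hk⟩ := Subgroup.mem_zpowers_iff.mp (hle hm)
    rw [← hk, ← zpow_natCast, ← zpow_mul, mul_comm, zpow_mul, zpow_natCast, hc3, one_zpow]
  have hMT : M ⊓ T = D := by
    apply le_antisymm
    · rintro m ⟨hmM, hmT⟩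
      have h1 : π m = 1 := by
        have h3 := hπM m hmM
        have h2 := hπT2 m hmT
        calc π m = π m ^ 3 * (π m ^ 2)⁻¹ := by group
          _ = 1 := by rw [h3, h2]; simp
      have hmQ : m ∈ Q := (hπ1 m).mp h1
      obtain ⟨d, hd, z, hz, hdz⟩ := Subgroup.mem_sup_of_normal_left.mp hmM
      have hzQ : z ∈ Q := by
        have : z = d⁻¹ * m := by rw [← hdz]; group
        rw [this]
        exact Q.mul_mem (Q.inv_mem (hDQ hd)) hmQ
      have hz1 := hzT z hz (hQT hzQ)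
      rw [hz1, mul_one] at hdz
      rw [← hdz]; exact hd
    · exact le_inf hDM hDT
  -- L
  set L : Subgroup X := M ⊔ S with hL
  have hML : M ≤ L := le_sup_left
  have hSL : S ≤ L := le_sup_right
  have hLT : L ⊓ T = S := by
    apply le_antisymm
    · rintro g ⟨hgL, hgT⟩
      obtain ⟨m, hm, s, hs, hms⟩ := Subgroup.mem_sup_of_normal_left.mp hgL
      have hmT : m ∈ T := by
        have : m = g * s⁻¹ := by rw [← hms]; group
        rw [this]
        exact T.mul_mem hgT (T.inv_mem (hST hs))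
      have hmD : m ∈ D := by rw [← hMT]; exact ⟨hm, hmT⟩
      rw [← hms]
      exact S.mul_mem (hDS hmD) hs
    · exact le_inf hSL hST
  have hLQ : L ⊓ Q = D := by
    apply le_antisymm
    · rintro g ⟨hgL, hgQ⟩
      have : g ∈ L ⊓ T := ⟨hgL, hQT hgQ⟩
      rw [hLT] at this
      exact ⟨hgQ, this⟩
    · exact le_inf (hDM.trans hML) hDQ
  -- cardinalities
  have hcSD : Nat.card ↥S = 2 * Nat.card ↥D := by
    have hidx : (D.subgroupOf S).index = 2 := by
      rw [Subgroup.index_eq_two_iff]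
      refine ⟨⟨s₀, hs₀S⟩, ?_⟩
      rintro ⟨b, hb⟩
      simp only [Subgroup.mem_subgroupOf, Subgroup.coe_mul]
      by_cases hbQ : b ∈ Q
      · right
        refine ⟨⟨hbQ, hb⟩, ?_⟩
        intro hcon
        exact hs₀Q (((iQ (hST hb) hs₀T).mp hcon.1).mp hbQ)
      · left
        refine ⟨⟨(iQ (hST hb) hs₀T).mpr ⟨fun h => absurd h hbQ, fun h => absurd h hs₀Q⟩,
          S.mul_mem hb hs₀S⟩, ?_⟩
        intro hcon
        exact hbQ hcon.1
    have h1 := Subgroup.card_mul_index (D.subgroupOf S)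
    rw [Nat.card_congr (Subgroup.subgroupOfEquivOfLe hDS).toEquiv, hidx] at h1
    omega
  have hDρ : D ⊓ Subgroup.zpowers ρ = ⊥ := by
    rw [eq_bot_iff]
    rintro z ⟨hzD, hz⟩
    exact hzT z hz (hDT hzD)
  have hcM : Nat.card ↥M = 3 * Nat.card ↥D := by
    have h1 : D.relIndex M = 3 := by
      rw [hM, Subgroup.relIndex_sup_left, ← Subgroup.inf_relIndex_right, hDρ,
        Subgroup.relIndex_bot_left, Nat.card_zpowers, hρ]
    have h2 := Subgroup.relIndex_mul_relIndex ⊥ D M bot_le hDM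
    rw [Subgroup.relIndex_bot_left, Subgroup.relIndex_bot_left, h1] at h2
    omega
  have hMS : M ⊓ S = D := by
    apply le_antisymm
    · rw [← hMT]; exact inf_le_inf_left M hST
    · exact le_inf hDM hDS
  have hcL : Nat.card ↥L = 3 * Nat.card ↥S := by
    have h0 : D.relIndex S = 2 := by
      have h2 := Subgroup.relIndex_mul_relIndex ⊥ D S bot_le hDS
      rw [Subgroup.relIndex_bot_left, Subgroup.relIndex_bot_left] at h2
      have hDpos : 0 < Nat.card ↥D := Nat.card_pos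
      have : Nat.card ↥D * D.relIndex S = Nat.card ↥D * 2 := by rw [h2, hcSD]; ring
      exact Nat.eq_of_mul_eq_mul_left hDpos this
    have h1 : M.relIndex L = 2 := by
      rw [hL, Subgroup.relIndex_sup_left, ← Subgroup.inf_relIndex_right, hMS, h0]
    have h2 := Subgroup.relIndex_mul_relIndex ⊥ M L bot_le hML
    rw [Subgroup.relIndex_bot_left, Subgroup.relIndex_bot_left, h1] at h2
    omega
  have hLn : L.Normal := by
    apply Subgroup.normal_of_index_eq_two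
    have h1 := Subgroup.card_mul_index L
    have hLpos : 0 < Nat.card ↥L := Nat.card_pos
    have : Nat.card ↥L * L.index = Nat.card ↥L * 2 := by rw [h1, hcL, hXT, hTS]; ring
    exact Nat.eq_of_mul_eq_mul_left hLpos this
  -- centralizer of D
  have hCD : ∀ g : X, (∀ d ∈ D, g * d = d * g) → π g = 1 := by
    -- first the case of an element of order 3 mod Q
    have key : ∀ g : X, (∀ d ∈ D, g * d = d * g) → π g ^ 3 = 1 → π g = 1 := by
      intro g hg h3
      obtain ⟨k, hk⟩ := (IsPGroup.iff_card).mp (hT2.to_le hQT)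
      set g' := g ^ Nat.card ↥Q with hg'
      have hg3Q : g ^ 3 ∈ Q := by rw [← hπ1, map_pow]; exact h3
      have hg'3 : g' ^ 3 = 1 := by
        rw [hg', ← pow_mul, mul_comm, pow_mul]
        have h9 : ((⟨g ^ 3, hg3Q⟩ : ↥Q) ^ Nat.card ↥Q : ↥Q) = 1 := pow_card_eq_one'
        have h10 := congrArg Subtype.val h9
        rwa [Subgroup.coe_pow, Subgroup.coe_one] at h10
      have hg'D : ∀ d ∈ D, g' * d = d * g' := by
        intro d hd
        have : Commute g d := hg d hd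
        exact (this.pow_left _).eq
      have hg'Q : g' ∈ Q := by
        apply hCQ
        intro q hq
        set d := g' * q * g'⁻¹ * q⁻¹ with hd
        have hdD : d ∈ D := hcommD g' q hq
        have hcd : g' * d = d * g' := hg'D d hdD
        have e1 : g' * q * g'⁻¹ = d * q := by rw [hd]; group
        have e2 : g' ^ 3 * q * (g' ^ 3)⁻¹ = d ^ 3 * q := by
          have s1 : g' ^ 3 * q * (g' ^ 3)⁻¹ = g' * (g' * (g' * q * g'⁻¹) * g'⁻¹) * g'⁻¹ := by
            simp only [pow_succ, pow_zero, one_mul, mul_inv_rev, mul_assoc]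
          rw [s1, e1]
          have s2 : g' * (d * q) * g'⁻¹ = d * (g' * q * g'⁻¹) := by
            calc g' * (d * q) * g'⁻¹ = (g' * d) * q * g'⁻¹ := by group
              _ = (d * g') * q * g'⁻¹ := by rw [hcd]
              _ = d * (g' * q * g'⁻¹) := by group
          rw [s2, e1]
          have s3 : g' * (d * (d * q)) * g'⁻¹ = d * (d * (g' * q * g'⁻¹)) := by
            calc g' * (d * (d * q)) * g'⁻¹ = (g' * d) * (d * q) * g'⁻¹ := by group
              _ = (d * g') * (d * q) * g'⁻¹ := by rw [hcd]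
              _ = d * ((g' * d) * q * g'⁻¹) := by group
              _ = d * ((d * g') * q * g'⁻¹) := by rw [hcd]
              _ = d * (d * (g' * q * g'⁻¹)) := by group
          rw [s3, e1]
          simp only [pow_succ, pow_zero, one_mul, mul_assoc]
        rw [hg'3] at e2
        have hd3 : d ^ 3 = 1 := by
          have : q = d ^ 3 * q := by simpa using e2
          have h' : d ^ 3 * q = 1 * q := by rw [one_mul]; exact this.symm
          exact mul_right_cancel h'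
        obtain ⟨j, hj⟩ := hT2pow d (hDT hdD)
        have hd1 : d = 1 := eq_one_of_cube_of_two_pow hd3 hj
        have : g' * q * g'⁻¹ = q := by rw [e1, hd1, one_mul]
        calc g' * q = (g' * q * g'⁻¹) * g' := by group
          _ = q * g' := by rw [this]
      have hπg' : π g ^ Nat.card ↥Q = 1 := by rw [← map_pow]; exact (hπ1 _).mpr hg'Q
      rw [hk] at hπg'
      exact eq_one_of_cube_of_two_pow h3 hπg'
    intro g hg
    rcases s3_sq_or_cube (π g) with h2 | h3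
    · by_contra hne
      have hg2 : ∀ d ∈ D, (ρ * g * ρ⁻¹ * g⁻¹) * d = d * (ρ * g * ρ⁻¹ * g⁻¹) := by
        intro d hd
        have h1 : g⁻¹ * d = d * g⁻¹ := by
          have := hg d hd
          calc g⁻¹ * d = g⁻¹ * (d * g) * g⁻¹ := by group
            _ = g⁻¹ * (g * d) * g⁻¹ := by rw [this]
            _ = d * g⁻¹ := by group
        have hd' : ρ⁻¹ * d * ρ ∈ D := by
          have := hDn.conj_mem d hd ρ⁻¹
          simpa using this
        have h2' := hg _ hd'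
        calc ρ * g * ρ⁻¹ * g⁻¹ * d = ρ * g * ρ⁻¹ * (g⁻¹ * d) := by group
          _ = ρ * g * ρ⁻¹ * (d * g⁻¹) := by rw [h1]
          _ = ρ * (g * (ρ⁻¹ * d * ρ)) * ρ⁻¹ * g⁻¹ := by group
          _ = ρ * ((ρ⁻¹ * d * ρ) * g) * ρ⁻¹ * g⁻¹ := by rw [h2']
          _ = d * (ρ * g * ρ⁻¹ * g⁻¹) := by group
      have hπ2 : π (ρ * g * ρ⁻¹ * g⁻¹) = c * π g * c⁻¹ * (π g)⁻¹ := by
        simp only [map_mul, map_inv]; rfl
      have hf := s3_comm c (π g) hc1 hc3 hne h2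
      have := key _ hg2 (by rw [hπ2]; exact hf.2)
      rw [hπ2] at this
      exact hf.1 this
    · exact key g hg h3
  refine ⟨L, hSL, hLn, hcL, hLT, hLQ, ?_, ?_, ?_, ?_⟩
  · intro g hgL hg
    have hgQ : g ∈ Q := (hπ1 g).mp (hCD g hg)
    rw [← hLQ]; exact ⟨hgL, hgQ⟩
  · refine ⟨ρ, hML hρM, s₀, hs₀S, ?_⟩
    intro hcon
    have h1 := hπT _ (hST hcon)
    have h2 : π (ρ * s₀ * ρ⁻¹) = c * τ * c⁻¹ := by simp only [map_mul, map_inv]; rfl
    rw [h2] at h1
    have hf := s3_tau c τ hc1 hc3 hτ1 hτ2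
    rcases h1 with h1 | h1
    · exact hf.1 h1
    · exact hf.2 h1
  · intro p
    obtain ⟨i, j, hij⟩ := s3_gen c τ (π p) hc1 hc3 hτ1 hτ2
    refine ⟨ρ ^ (i : ℕ) * s₀ ^ (j : ℕ),
      L.mul_mem (L.pow_mem (hML hρM) _) (L.pow_mem (hSL hs₀S) _),
      (ρ ^ (i : ℕ) * s₀ ^ (j : ℕ))⁻¹ * p, ?_, by group⟩
    rw [← hπ1, map_mul, map_inv, map_mul, map_pow, map_pow, hij]
    exact inv_mul_cancel _
  · intro N hNL hN2 hNn n hn
    have hnL : n ∈ L := hNL hn
    obtain ⟨k, hk⟩ := hN2 ⟨n, hn⟩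
    have hk' : n ^ 2 ^ k = 1 := by simpa using congrArg Subtype.val hk
    have h2 : π n ^ 2 = 1 := s3_sq_of_two_pow (π n) (by rw [← map_pow, hk', map_one])
    have hmem : ρ * n * ρ⁻¹ * n⁻¹ ∈ N := N.mul_mem (hNn ρ (hML hρM) n hn) (N.inv_mem hn)
    obtain ⟨k2, hk2⟩ := hN2 ⟨_, hmem⟩
    have hk2' : (ρ * n * ρ⁻¹ * n⁻¹) ^ 2 ^ k2 = 1 := by simpa using congrArg Subtype.val hk2
    have h3 : (c * π n * c⁻¹ * (π n)⁻¹) ^ 2 = 1 := by
      apply s3_sq_of_two_pow (k := k2)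
      have : c * π n * c⁻¹ * (π n)⁻¹ = π (ρ * n * ρ⁻¹ * n⁻¹) := by
        simp only [map_mul, map_inv]; rfl
      rw [this, ← map_pow, hk2', map_one]
    have h1 : π n = 1 := s3_two c (π n) hc1 hc3 h2 h3
    rw [← hLQ]
    exact ⟨hnL, (hπ1 n).mp h1⟩

end Cfsg.Agent.Lib.Helper34.Amal
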